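import Groth.Agent.TorCI.CohenCover
import Groth.Agent.SerreReg.Descent

/-!
# Cohen presentations of local homomorphisms, keeping the coefficient rings
-/

set_option autoImplicit false
set_option linter.style.haveILetI false
set_option backward.isDefEq.respectTransparency false
universe u

open IsLocalRing RingTheory.Sequence MvPowerSeries

namespace Groth.Agent.CohenPres

open Groth.Agent.TorCI

/-- power series with coefficients mapped by an isomorphism -/
noncomputable def mapEquiv {σ : Type} {R S : Type u} [CommRing R] [CommRing S] (e : R ≃+* S) :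
    MvPowerSeries σ R ≃+* MvPowerSeries σ S :=
  RingEquiv.ofRingHom (MvPowerSeries.map e.toRingHom) (MvPowerSeries.map e.symm.toRingHom)
    (RingHom.ext fun f => MvPowerSeries.ext fun d => by simp)
    (RingHom.ext fun f => MvPowerSeries.ext fun d => by simp)

/-- iterated power series -/
theorem nonempty_iterEquiv (W : Type u) [CommRing W] (m : ℕ) :
    ∀ n : ℕ, Nonempty (MvPowerSeries (Fin n) (MvPowerSeries (Fin m) W) ≃+* MvPowerSeries (Fin (n + m)) W) := by
  intro n
  induction n with
  | zero =>
    exact ⟨(MvPowerSeries.isEmptyEquiv (Fin 0) (MvPowerSeries (Fin m) W)).toRingEquiv.trans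
      (MvPowerSeries.renameEquiv W (finCongr (zero_add m).symm)).toRingEquiv⟩
  | succ n ih =>
    obtain ⟨e⟩ := ih
    exact ⟨(MvPowerSeries.finSuccEquiv (MvPowerSeries (Fin m) W) n).toRingEquiv.trans
      (((mapEquiv (σ := Unit) e).trans (MvPowerSeries.finSuccEquiv W (n + m)).toRingEquiv.symm).trans
        (MvPowerSeries.renameEquiv W (finCongr (by omega : n + m + 1 = n + 1 + m))).toRingEquiv)⟩

/-- Cohen presentation of a local homomorphism. -/
theorem exists_presentation {A B : Type u} [CommRing A] [CommRing B] [IsNoetherianRing A] [IsNoetherianRing B]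
    [IsLocalRing A] [IsLocalRing B] [IsAdicComplete (maximalIdeal A) A] [IsAdicComplete (maximalIdeal B) B]
    (φ : A →+* B) [IsLocalHom φ] :
    ∃ (W W' : Type u) (_ : CommRing W) (_ : CommRing W') (_ : IsLocalRing W) (n k : ℕ)
      (π : MvPowerSeries (Fin n) W →+* A) (σ : MvPowerSeries (Fin k) W' →+* B)
      (ρ : MvPowerSeries (Fin n) W →+* MvPowerSeries (Fin k) W'),
      ((CharZero (ResidueField A) ∧ IsField W ∧ IsField W') ∨
        (¬ CharZero (ResidueField A) ∧ CAlg.IsCohenRing W ∧ CAlg.IsCohenRing W')) ∧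
        Function.Surjective π ∧ Function.Surjective σ ∧ σ.comp ρ = φ.comp π ∧
        ρ.Flat ∧ IsRegularRing (MvPowerSeries (Fin k) W' ⧸ (maximalIdeal (MvPowerSeries (Fin n) W)).map ρ) := by
  -- source
  obtain ⟨W, _, _, hW, g, hg⟩ := exists_coefficientsEGA A
  obtain ⟨n, a, ha⟩ := Submodule.fg_iff_exists_fin_generating_family.mp (IsNoetherian.noetherian (maximalIdeal A))
  have ham : ∀ i, a i ∈ maximalIdeal A := fun i => ha ▸ Submodule.subset_span ⟨i, rfl⟩
  letI := g.toAlgebra
  obtain ⟨π, hπ⟩ := ArtKit.exists_evalAdic (R := W) (maximalIdeal A) a ham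
  obtain ⟨q, l, hRreg, hq, hl, hRc, hRmax, hRdim, -⟩ := coeff_ps hW n
  let R := MvPowerSeries (Fin n) W
  haveI : IsRegularLocalRing R := hRreg
  haveI : IsAdicComplete (maximalIdeal R) R := hRc
  have hπs : Function.Surjective π.toRingHom :=
    surjective_of_coefficients π.toRingHom g (fun c => π.commutes c) hg a ha hπ
  -- target
  obtain ⟨W', _, _, hW', g', hg'⟩ := exists_coefficientsEGA B
  obtain ⟨m, b, hb⟩ := Submodule.fg_iff_exists_fin_generating_family.mp (IsNoetherian.noetherian (maximalIdeal B))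
  have hbm : ∀ i, b i ∈ maximalIdeal B := fun i => hb ▸ Submodule.subset_span ⟨i, rfl⟩
  letI := g'.toAlgebra
  obtain ⟨τ₀, hτ₀⟩ := ArtKit.exists_evalAdic (R := W') (maximalIdeal B) b hbm
  obtain ⟨q', l', hTreg, hq', hl', hTc, hTmax, -, hTl, hTne, hTfib⟩ := coeff_ps hW' m
  let T := MvPowerSeries (Fin m) W'
  haveI : IsRegularLocalRing T := hTreg
  haveI : IsAdicComplete (maximalIdeal T) T := hTc
  have hτ₀s : Function.Surjective τ₀.toRingHom :=
    surjective_of_coefficients τ₀.toRingHom g' (fun c => τ₀.commutes c) hg' b hb hτ₀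
  -- the cover
  let P := MvPowerSeries (Fin n) T
  haveI : IsRegularLocalRing P := Cohen.isRegularLocalRing_mvPowerSeries T n
  haveI : IsAdicComplete (maximalIdeal P) P := ArtKit.isAdicComplete_mvPowerSeries
  letI : Algebra T B := τ₀.toRingHom.toAlgebra
  have hφa : ∀ i, φ (a i) ∈ maximalIdeal B := fun i => map_nonunit φ _ (ham i)
  obtain ⟨τ, hτ⟩ := ArtKit.exists_evalAdic (R := T) (maximalIdeal B) (fun i => φ (a i)) hφa
  have hτs : Function.Surjective τ.toRingHom := fun y => by
    obtain ⟨t, rfl⟩ := hτ₀s y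
    exact ⟨algebraMap T P t, τ.commutes t⟩
  haveI : IsLocalHom τ.toRingHom := IsLocalHom.of_surjective _ hτs
  let e : (P ⧸ RingHom.ker τ.toRingHom) ≃+* B := RingHom.quotientKerEquivOfSurjective hτs
  haveI : IsLocalRing (P ⧸ RingHom.ker τ.toRingHom) := e.symm.isLocalRing
  haveI : IsLocalHom g := isLocalHom_of_coefficients g hg
  haveI hloc2 : IsLocalHom (e.symm.toRingHom.comp (φ.comp g)) :=
    ⟨fun w hw => isUnit_of_map_unit g w (isUnit_of_map_unit φ (g w) (by simpa using hw.map e.toRingHom))⟩
  obtain ⟨v, hvloc, hv⟩ := S2456.result hW (RingHom.ker τ.toRingHom) (RingHom.ker_ne_top _)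
    (e.symm.toRingHom.comp (φ.comp g))
  have hτv : ∀ c, τ (v c) = φ (g c) := fun c => by
    have h1 : e (Ideal.Quotient.mk _ (v c)) = e (e.symm (φ (g c))) := congrArg e (RingHom.congr_fun hv c)
    rwa [RingEquiv.apply_symm_apply] at h1
  letI : Algebra W P := v.toAlgebra
  have hXm : ∀ i, (X i : P) ∈ maximalIdeal P := fun i => by
    rw [ArtKit.mem_maximalIdeal_iff_constantCoeff, constantCoeff_X]
    exact zero_mem _
  obtain ⟨ρ, hρ⟩ := ArtKit.exists_evalAdic (R := W) (maximalIdeal P) (fun i => (X i : P)) hXm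
  -- compatibility
  letI : Algebra W B := (φ.comp g).toAlgebra
  have hcomp : τ.toRingHom.comp ρ.toRingHom = φ.comp π.toRingHom := by
    let f₁ : R →ₐ[W] B := { τ.toRingHom.comp ρ.toRingHom with
      commutes' := fun c => by
        show τ (ρ (algebraMap W R c)) = φ (g c)
        rw [ρ.commutes]
        exact hτv c }
    let f₂ : R →ₐ[W] B := { φ.comp π.toRingHom with
      commutes' := fun c => by
        show φ (π (algebraMap W R c)) = φ (g c)
        rw [π.commutes]
        rfl }
    have : f₁ = f₂ := ArtKit.algHom_ext_adic (maximalIdeal B)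
      (fun i => show τ (ρ (X i)) = φ (π (X i)) by rw [hρ, hπ, hτ])
      (fun i => show τ (ρ (X i)) ∈ maximalIdeal B by rw [hρ, hτ]; exact hφa i)
    exact congrArg AlgHom.toRingHom this
  have hρl : IsLocalHom ρ.toRingHom := ⟨fun x hx => by
    haveI : IsLocalHom π.toRingHom := IsLocalHom.of_surjective _ hπs
    have h1 : IsUnit (φ (π.toRingHom x)) := by
      have := RingHom.congr_fun hcomp x
      rw [RingHom.comp_apply, RingHom.comp_apply] at this
      rw [← this]
      exact hx.map τ.toRingHom
    exact isUnit_of_map_unit π.toRingHom x (isUnit_of_map_unit φ _ h1)⟩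
  haveI := hρl
  -- the characteristics agree
  have hll : l = l' := by
    haveI := hq; haveI := hq'
    haveI : IsLocalHom π.toRingHom := IsLocalHom.of_surjective _ hπs
    haveI : IsLocalHom τ₀.toRingHom := IsLocalHom.of_surjective _ hτ₀s
    obtain ⟨qA, hqA⟩ := CharP.exists (ResidueField A)
    obtain ⟨qB, hqB⟩ := CharP.exists (ResidueField B)
    haveI := hqA; haveI := hqB
    have h1 : q = qA := charP_eq_of_hom π.toRingHom
    have h2 : q' = qB := charP_eq_of_hom τ₀.toRingHom
    have h3 : qA = qB := charP_eq_of_hom φ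
    rw [hl, hl', h1, h2, h3]
  -- flatness
  have hxsmap : (xs n W l).map ρ.toRingHom = xs n T l := by
    simp only [xs, List.map_append, List.map_ofFn, List.map_map]
    congr 1
    · exact congrArg List.ofFn (funext fun i => hρ i)
    · exact List.map_congr_left fun c _ => map_natCast ρ.toRingHom c
  rw [← hll] at hTl hTne hTfib
  obtain ⟨hPreg, -⟩ := xs_regular n l hTl hTne
  letI : Algebra R P := ρ.toRingHom.toAlgebra
  haveI : IsLocalHom (algebraMap R P) := hρl
  obtain ⟨hRw, -⟩ : IsWeaklyRegular R (xs n W l) ∧ True := by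
    refine ⟨CotT.isWeaklyRegular_of_dim _ (hRmax ▸ (maximalIdeal.isMaximal R).ne_top) ?_, trivial⟩
    rw [hRmax, ringKrullDim_eq_zero_of_isField ((Ideal.Quotient.maximal_ideal_iff_isField_quotient _).mp inferInstance),
      add_zero, xs_length, hRdim]
  have hPw : IsWeaklyRegular P (xs n W l) := by
    rw [← isWeaklyRegular_map_algebraMap_iff P]
    show IsWeaklyRegular P ((xs n W l).map ρ.toRingHom)
    rw [hxsmap]
    exact hPreg
  have hflat : Module.Flat R P := SerreReg.flat_of_regular_rsop _ R (by rw [hRdim]) (xs n W l) (xs_length n W l)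
    hRw hRmax P hPw
  have hfib : IsRegularLocalRing (P ⧸ (maximalIdeal R).map ρ.toRingHom) := by
    haveI := hTfib
    rw [← hRmax, Ideal.map_ofList, hxsmap]
    exact IsRegularLocalRing.of_ringEquiv (xsEquiv n T l).symm
  obtain ⟨e'⟩ := nonempty_iterEquiv W' m n
  refine ⟨W, W', inferInstance, inferInstance, inferInstance, n, n + m, π.toRingHom,
    τ.toRingHom.comp e'.symm.toRingHom, e'.toRingHom.comp ρ.toRingHom, ?_, hπs, hτs.comp e'.symm.surjective,
    RingHom.ext fun x => ?_, RingHom.Flat.comp (f := ρ.toRingHom) (g := e'.toRingHom) hflat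
      (RingHom.Flat.of_bijective e'.bijective), ?_⟩
  · haveI : IsLocalHom g := isLocalHom_of_coefficients g hg
    haveI : IsLocalHom g' := isLocalHom_of_coefficients g' hg'
    obtain ⟨qA, hqA⟩ := CharP.exists (ResidueField A)
    haveI := hqA
    have hiff : ∀ {V : Type u} [CommRing V] [IsLocalRing V], EGA41.IsCohenRingEGA V → CharP (ResidueField V) qA →
        (qA = 0 → IsField V) ∧ (qA ≠ 0 → CAlg.IsCohenRing V) := fun {V} _ _ hV hc => by
      haveI := hc
      rcases hV with ⟨hf, h0⟩ | hV
      · letI := hf.toField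
        haveI : CharZero (ResidueField V) := charZero_of_injective_ringHom (residue V).injective
        exact ⟨fun _ => hf, fun h => absurd (CharP.eq (ResidueField V) hc (CharP.ofCharZero _)) h⟩
      · obtain ⟨p, _, hp, hch, -⟩ := EGA41Cohen.cohen_spec hV
        exact ⟨fun h => absurd ((CharP.eq (ResidueField V) hch hc).trans h) hp.ne_zero, fun _ => hV⟩
    have hcA : CharP (ResidueField W) qA := (RingHom.charP_iff_charP (ResidueField.map g) qA).mpr inferInstance
    have hcB : CharP (ResidueField W') qA := by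
      haveI : CharP (ResidueField B) qA := (RingHom.charP_iff_charP (ResidueField.map φ) qA).mp inferInstance
      exact (RingHom.charP_iff_charP (ResidueField.map g') qA).mpr inferInstance
    by_cases h0 : qA = 0
    · subst h0
      exact Or.inl ⟨CharP.charP_to_charZero _, (hiff hW hcA).1 rfl, (hiff hW' hcB).1 rfl⟩
    · refine Or.inr ⟨fun hz => h0 ?_, (hiff hW hcA).2 h0, (hiff hW' hcB).2 h0⟩
      haveI := hz
      exact CharP.eq (ResidueField A) hqA (CharP.ofCharZero _)
  · show τ.toRingHom (e'.symm (e' (ρ.toRingHom x))) = _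
    rw [e'.symm_apply_apply]
    exact RingHom.congr_fun hcomp x
  · haveI := SerreReg.isRegularRing_of_isRegularLocalRing (P ⧸ (maximalIdeal R).map ρ.toRingHom)
    exact IsRegularRing.of_ringEquiv (Ideal.quotientEquiv ((maximalIdeal R).map ρ.toRingHom)
      ((maximalIdeal R).map (e'.toRingHom.comp ρ.toRingHom)) e' (Ideal.map_map ρ.toRingHom e'.toRingHom).symm)

end Groth.Agent.CohenPres
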